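/-
An abelian centraliser of an involution which is the centraliser of each of its nontrivial elements
and is not normal has exponent two (by way of Feit's theorem on Zassenhaus groups).
-/
import Mathlib
import Cfsg.Prelude.Def_Involutions
import Cfsg.Prelude.Def_LieExceptional
import Cfsg.Agent.Lib.Involutions.StronglyEmbedded
import Cfsg.Agent.Lib.PGroups.UniqueSubgroup
import Cfsg.Agent.S0885

set_option autoImplicit false

namespace Cfsg.Agent.CTGroup

open MulAction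
open Cfsg.Agent.Involutions
open Cfsg.Agent.Involutions.Basic (inv_eq inv_sq_one orderOf_conj orderOf_two_iff)

variable {G : Type*} [Group G] [Finite G]

/-- The hypotheses: `A` is abelian, it is the centraliser of each of its nontrivial elements, it contains
a Sylow 2-subgroup, which is not cyclic, and it is not normal. -/
structure Hyp (A : Subgroup G) : Prop where
  cent : ∀ a ∈ A, a ≠ 1 → Subgroup.centralizer ({a} : Set G) = A
  sylow : ∃ S : Sylow 2 G, (S : Subgroup G) ≤ A ∧ ¬ IsCyclic (S : Subgroup G)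
  not_normal : ¬ A.Normal

/-- The normaliser of `A`. -/
def nA (A : Subgroup G) : Subgroup G := Subgroup.normalizer (A : Set G)

variable {A : Subgroup G}

theorem le_nA : A ≤ nA A := Subgroup.le_normalizer

theorem conj_mem {m : G} (hm : m ∈ nA A) {a : G} (ha : a ∈ A) : m * a * m⁻¹ ∈ A :=
  (Subgroup.mem_normalizer_iff.1 hm a).1 ha

theorem Hyp.mem_of_commute (h : Hyp A) {a x : G} (ha : a ∈ A) (ha1 : a ≠ 1) (hx : x * a = a * x) :
    x ∈ A := by
  rw [← h.cent a ha ha1, Subgroup.mem_centralizer_singleton_iff]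
  exact hx

theorem Hyp.comm (h : Hyp A) {a b : G} (ha : a ∈ A) (hb : b ∈ A) : a * b = b * a := by
  by_cases hb1 : b = 1
  · rw [hb1, mul_one, one_mul]
  · rw [← h.cent b hb hb1, Subgroup.mem_centralizer_singleton_iff] at ha
    exact ha

theorem Hyp.mem_nA_of_conj (h : Hyp A) {a g : G} (ha : a ∈ A) (ha1 : a ≠ 1) (hg : g * a * g⁻¹ ∈ A) :
    g ∈ nA A := by
  have hc := h.cent a ha ha1
  have hc' := h.cent _ hg (mt conj_eq_one_iff.1 ha1)
  refine Subgroup.mem_normalizer_iff.2 fun x => ?_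
  rw [← SetLike.mem_coe, SetLike.mem_coe]
  conv_lhs => rw [← hc]
  conv_rhs => rw [← hc']
  rw [Subgroup.mem_centralizer_singleton_iff, Subgroup.mem_centralizer_singleton_iff]
  constructor
  · intro hs
    calc g * x * g⁻¹ * (g * a * g⁻¹) = g * (x * a) * g⁻¹ := by group
      _ = g * (a * x) * g⁻¹ := by rw [hs]
      _ = g * a * g⁻¹ * (g * x * g⁻¹) := by group
  · intro hs
    calc x * a = g⁻¹ * (g * x * g⁻¹ * (g * a * g⁻¹)) * g := by group
      _ = g⁻¹ * (g * a * g⁻¹ * (g * x * g⁻¹)) * g := by rw [hs]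
      _ = a * x := by group

/-- Two involutions of `A`. -/
theorem Hyp.two_involutions (h : Hyp A) :
    ∃ s t : G, s ∈ A ∧ t ∈ A ∧ orderOf s = 2 ∧ orderOf t = 2 ∧ s ≠ t := by
  have : Fact (Nat.Prime 2) := ⟨Nat.prime_two⟩
  obtain ⟨S, hSA, hnc⟩ := h.sylow
  by_contra hcon
  push_neg at hcon
  apply hnc
  have : IsMulCommutative (S : Subgroup G) :=
    ⟨⟨fun x y => Subtype.ext (h.comm (hSA x.2) (hSA y.2))⟩⟩
  refine PGroups.UniqueSubgroup.isCyclic_of_abelian S.2 fun x y hx hy hx1 => ?_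
  by_cases hy1 : y = 1
  · rw [hy1]; exact one_mem _
  · have ox : orderOf (x : G) = 2 := by rw [Subgroup.orderOf_coe, orderOf_eq_prime hx hx1]
    have oy : orderOf (y : G) = 2 := by rw [Subgroup.orderOf_coe, orderOf_eq_prime hy hy1]
    rw [Subtype.ext (hcon _ _ (hSA x.2) (hSA y.2) ox oy) (a1 := x) (a2 := y)]
    exact Subgroup.mem_zpowers y

theorem Hyp.odd_index (h : Hyp A) : Odd (Nat.card (nA A ⧸ A.subgroupOf (nA A))) := by
  have : Fact (Nat.Prime 2) := ⟨Nat.prime_two⟩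
  obtain ⟨S, hSA, -⟩ := h.sylow
  rw [← Subgroup.index_eq_card]
  show Odd (A.relIndex (nA A))
  refine Nat.not_even_iff_odd.1 fun he => S.not_dvd_index ?_
  exact (he.two_dvd.trans (Subgroup.relIndex_dvd_index_of_le le_nA)).trans (Subgroup.index_dvd_of_le hSA)

theorem Hyp.invol_mem (h : Hyp A) {t : G} (ht : t ∈ nA A) (ho : orderOf t = 2) : t ∈ A := by
  haveI : (A.subgroupOf (nA A)).Normal :=
    ⟨fun a ha m => conj_mem m.2 ha⟩
  have h1 : ((⟨t, ht⟩ : nA A) : nA A ⧸ A.subgroupOf (nA A)) ^ 2 = 1 := by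
    rw [← QuotientGroup.mk_pow]
    have : (⟨t, ht⟩ : nA A) ^ 2 = 1 := Subtype.ext (by simp [pow_two, inv_sq_one ho])
    rw [this]; rfl
  have h2 : orderOf ((⟨t, ht⟩ : nA A) : nA A ⧸ A.subgroupOf (nA A)) = 1 :=
    Nat.eq_one_of_dvd_coprimes (Nat.coprime_two_left.2 h.odd_index) (orderOf_dvd_of_pow_eq_one h1)
      (orderOf_dvd_natCard _)
  rw [orderOf_eq_one_iff, QuotientGroup.eq_one_iff] at h2
  exact h2

theorem Hyp.stronglyEmbedded (h : Hyp A) : Cfsg.IsStronglyEmbedded (nA A) := by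
  obtain ⟨s, -, hs, -, hso, -, -⟩ := h.two_involutions
  refine StronglyEmbedded.of_conj (fun htop => h.not_normal (Subgroup.normalizer_eq_top_iff.1 htop)) ?_ ?_
  · rw [even_iff_two_dvd, ← hso, ← Subgroup.orderOf_mk (H := nA A) s (le_nA hs)]
    exact orderOf_dvd_natCard _
  · intro t ht ho g hg
    exact h.mem_nA_of_conj (h.invol_mem ht ho) (Basic.ne_one ho)
      (h.invol_mem hg (by rw [orderOf_conj, ho]))

/-- The action of the normaliser on the nontrivial elements of `A` is semiregular modulo `A`. -/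
theorem Hyp.index_dvd (h : Hyp A) :
    Nat.card (nA A ⧸ A.subgroupOf (nA A)) ∣ Nat.card A - 1 := by
  classical
  let X := {a : A // a ≠ 1}
  letI : MulAction (nA A) X :=
    { smul := fun m a => ⟨⟨(m : G) * a.1 * (m : G)⁻¹, conj_mem m.2 a.1.2⟩, fun e => a.2 (Subtype.ext
        (conj_eq_one_iff.1 (congrArg Subtype.val e)))⟩
      one_smul := fun a => Subtype.ext (Subtype.ext (by show (1 : G) * a.1 * (1 : G)⁻¹ = a.1; group))
      mul_smul := fun m k a => Subtype.ext (Subtype.ext (by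
        show ((m : G) * k) * a.1 * ((m : G) * k)⁻¹ = m * (k * a.1 * (k : G)⁻¹) * (m : G)⁻¹; group)) }
  have hst : ∀ a : X, stabilizer (nA A) a = A.subgroupOf (nA A) := by
    intro a
    ext m
    rw [mem_stabilizer_iff, Subgroup.mem_subgroupOf]
    constructor
    · intro e
      have e' : (m : G) * a.1 * (m : G)⁻¹ = a.1 := congrArg (fun x : X => ((x.1 : A) : G)) e
      exact h.mem_of_commute a.1.2 (fun e => a.2 (Subtype.ext e)) (mul_inv_eq_iff_eq_mul.1 e')
    · intro hm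
      refine Subtype.ext (Subtype.ext ?_)
      show (m : G) * a.1 * (m : G)⁻¹ = a.1
      rw [h.comm hm a.1.2, mul_inv_cancel_right]
  have hcard : Nat.card X = Nat.card A - 1 := by
    have := Fintype.ofFinite A
    rw [Nat.card_eq_fintype_card, Nat.card_eq_fintype_card, Fintype.card_subtype_compl,
      Fintype.card_subtype_eq]
  rw [← hcard, Nat.card_congr (selfEquivSigmaOrbitsQuotientStabilizer (nA A) X)]
  have := Fintype.ofFinite (Quotient (orbitRel (nA A) X))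
  rw [Nat.card_sigma]
  refine Finset.dvd_sum fun ω _ => ?_
  rw [hst]

theorem Hyp.mem_of_pow_card (h : Hyp A) {x : G} (hx : x ∈ nA A) (hp : x ^ Nat.card A = 1) : x ∈ A := by
  haveI : (A.subgroupOf (nA A)).Normal := ⟨fun a ha m => conj_mem m.2 ha⟩
  have h1 : ((⟨x, hx⟩ : nA A) : nA A ⧸ A.subgroupOf (nA A)) ^ Nat.card A = 1 := by
    rw [← QuotientGroup.mk_pow]
    have : (⟨x, hx⟩ : nA A) ^ Nat.card A = 1 := Subtype.ext (by simp [hp])
    rw [this]; rfl
  have hpos : 1 ≤ Nat.card A := Nat.card_pos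
  have hco : Nat.Coprime (Nat.card A) (Nat.card A - 1) :=
    (Nat.coprime_self_sub_right hpos).2 (Nat.coprime_one_right _)
  have h2 : orderOf ((⟨x, hx⟩ : nA A) : nA A ⧸ A.subgroupOf (nA A)) = 1 :=
    Nat.eq_one_of_dvd_coprimes hco (orderOf_dvd_of_pow_eq_one h1)
      ((orderOf_dvd_natCard _).trans h.index_dvd)
  rw [orderOf_eq_one_iff, QuotientGroup.eq_one_iff] at h2
  exact h2

/-- The base point. -/
def o (A : Subgroup G) : G ⧸ nA A := ((1 : G) : G ⧸ nA A)

theorem smul_mk_eq_iff {g k : G} : g • (k : G ⧸ nA A) = k ↔ k⁻¹ * g * k ∈ nA A := by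
  show ((g * k : G) : G ⧸ nA A) = k ↔ _
  rw [eq_comm, QuotientGroup.eq, mul_assoc]

theorem smul_o {g : G} : g • o A = o A ↔ g ∈ nA A := by
  rw [o, smul_mk_eq_iff, inv_one, one_mul, mul_one]

/-- A nontrivial element of a conjugate of `A` fixes one point. -/
theorem Hyp.fixed_unique (h : Hyp A) {a k : G} (ha : a ∈ A) (ha1 : a ≠ 1) {y : G ⧸ nA A}
    (hy : (k * a * k⁻¹) • y = y) : y = (k : G ⧸ nA A) := by
  obtain ⟨g, rfl⟩ := QuotientGroup.mk_surjective y
  rw [smul_mk_eq_iff] at hy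
  have e : g⁻¹ * (k * a * k⁻¹) * g = (g⁻¹ * k) * a * (g⁻¹ * k)⁻¹ := by group
  rw [e] at hy
  have hp : ((g⁻¹ * k) * a * (g⁻¹ * k)⁻¹) ^ Nat.card A = 1 := by
    have h1 : (⟨a, ha⟩ : A) ^ Nat.card A = 1 := pow_card_eq_one'
    rw [conj_pow, show a ^ Nat.card A = 1 from congrArg Subtype.val h1, mul_one, mul_inv_cancel]
  have := h.mem_nA_of_conj ha ha1 (h.mem_of_pow_card hy hp)
  exact (QuotientGroup.eq.2 this)

theorem Hyp.fixed_o (h : Hyp A) {a : G} (ha : a ∈ A) (ha1 : a ≠ 1) {y : G ⧸ nA A} (hy : a • y = y) :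
    y = o A :=
  h.fixed_unique ha ha1 (k := 1) (by simpa using hy)

/-- The stabiliser of `o` and `y`. -/
def two (y : G ⧸ nA A) : Subgroup G := nA A ⊓ stabilizer G y

theorem mem_two {y : G ⧸ nA A} {g : G} : g ∈ two y ↔ g ∈ nA A ∧ g • y = y := Iff.rfl

theorem Hyp.two_inf (h : Hyp A) {y : G ⧸ nA A} (hy : y ≠ o A) {g : G} (hg : g ∈ two y) (hA : g ∈ A) :
    g = 1 :=
  by_contra fun hg1 => hy (h.fixed_o hA hg1 hg.2)

theorem Hyp.not_mem_A (h : Hyp A) {y : G ⧸ nA A} (hy : y ≠ o A) {g : G} (hg : g ∈ two y) (hg1 : g ≠ 1) :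
    g ∉ A := fun hA => hg1 (h.two_inf hy hg hA)

theorem Hyp.exists_swap (h : Hyp A) {y : G ⧸ nA A} (hy : y ≠ o A) :
    ∃ u : G, orderOf u = 2 ∧ u • o A = y ∧ u • y = o A ∧ u ∉ nA A := by
  have hc := StronglyEmbedded.card_swap h.stronglyEmbedded (o A) y (Ne.symm hy)
  obtain ⟨s, t, hs, -, hso, -, -⟩ := h.two_involutions
  have : Nonempty {t : G // orderOf t = 2 ∧ t ∈ nA A} := ⟨⟨s, hso, le_nA hs⟩⟩
  have hpos : 0 < Nat.card {i : G // orderOf i = 2 ∧ i • o A = y} := hc ▸ Nat.card_pos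
  obtain ⟨u, hu, huy⟩ := (Nat.card_pos_iff.1 hpos).1
  refine ⟨u, hu, huy, by rw [← huy, smul_smul, inv_sq_one hu, one_smul], fun hm => hy ?_⟩
  rw [← huy, smul_o.2 hm]

theorem two_eq {y : G ⧸ nA A} {u : G} (huy : u • o A = y) :
    two y = nA A ⊓ (nA A).map (MulAut.conj u).toMonoidHom := by
  ext g
  rw [mem_two, Subgroup.mem_inf, Transfer.Fusion.mem_map_conj]
  refine and_congr_right fun _ => ?_
  have e : y = (u : G ⧸ nA A) := by
    rw [← huy, o]; show ((u * 1 : G) : G ⧸ nA A) = _; rw [mul_one]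
  rw [e, smul_mk_eq_iff]

theorem Hyp.exists_conj (h : Hyp A) {y : G ⧸ nA A} (hy : y ≠ o A) {s t : G} (hs : s ∈ A)
    (hso : orderOf s = 2) (ht : t ∈ A) (hto : orderOf t = 2) : ∃ d ∈ two y, d * s * d⁻¹ = t := by
  obtain ⟨u, hu, huy, -, hun⟩ := h.exists_swap hy
  rw [two_eq huy]
  exact StronglyEmbedded.exists_conj_in_inter h.stronglyEmbedded hu hun hso (le_nA hs) hto (le_nA ht)

/-- The normaliser is `two y` times `A`. -/
theorem Hyp.factor (h : Hyp A) {y : G ⧸ nA A} (hy : y ≠ o A) {m : G} (hm : m ∈ nA A) :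
    ∃ d ∈ two y, ∃ a ∈ A, m = d * a := by
  obtain ⟨s, -, hs, -, hso, -, -⟩ := h.two_involutions
  obtain ⟨d, hd, hds⟩ := h.exists_conj hy hs hso (conj_mem hm hs) (by rw [orderOf_conj, hso])
  refine ⟨d, hd, d⁻¹ * m, h.mem_of_commute hs (Basic.ne_one hso) ?_, (mul_inv_cancel_left d m).symm⟩
  calc d⁻¹ * m * s = d⁻¹ * (m * s * m⁻¹) * m := by group
    _ = d⁻¹ * (d * s * d⁻¹) * m := by rw [hds]
    _ = s * (d⁻¹ * m) := by group

theorem Hyp.odd_two (h : Hyp A) {y : G ⧸ nA A} (hy : y ≠ o A) : Odd (Nat.card (two y)) := by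
  refine Nat.not_even_iff_odd.1 fun he => ?_
  obtain ⟨t, ht, hto⟩ := StronglyEmbedded.exists_involution_mem he
  exact Basic.ne_one hto (h.two_inf hy ht (h.invol_mem ht.1 hto))

theorem Hyp.sq_ne_one (h : Hyp A) {y : G ⧸ nA A} (hy : y ≠ o A) {d : G} (hd : d ∈ two y)
    (h2 : d * d = 1) : d = 1 := by
  by_contra hd1
  exact h.not_mem_A hy hd hd1 (h.invol_mem hd.1 (orderOf_two_iff.2 ⟨h2, hd1⟩))

/-- An involution exchanging `o` and `y` inverts their stabiliser. -/
theorem Hyp.inverts (h : Hyp A) {y : G ⧸ nA A} (hy : y ≠ o A) {u : G} (hu : orderOf u = 2)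
    (huy : u • o A = y) {d : G} (hd : d ∈ two y) : u * d * u⁻¹ = d⁻¹ := by
  have hback : u • y = o A := by rw [← huy, smul_smul, inv_sq_one hu, one_smul]
  have hun : u ∉ nA A := fun hm => hy (by rw [← huy, smul_o.2 hm])
  have hconj : ∀ x ∈ two y, u * x * u⁻¹ ∈ two y := fun x hx => by
    rw [inv_eq hu]
    refine mem_two.2 ⟨smul_o.1 ?_, ?_⟩
    · rw [mul_smul, mul_smul, huy, hx.2, hback]
    · rw [mul_smul, mul_smul, hback, smul_o.2 hx.1, huy]
  have hfix : ∀ x ∈ two y, u * x * u⁻¹ = x → x = 1 := by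
    intro x hx hxu
    by_contra hx1
    obtain ⟨s, -, hs, -, hso, -, -⟩ := h.two_involutions
    obtain ⟨g, hg⟩ := isConj_iff.1 (StronglyEmbedded.isConj_involutions h.stronglyEmbedded hso hu)
    have ha : g⁻¹ * x * g ∈ A := h.mem_of_commute hs (Basic.ne_one hso) (by
      have hxu' : x * (g * s * g⁻¹) = g * s * g⁻¹ * x := by
        rw [hg]; exact (mul_inv_eq_iff_eq_mul.1 hxu).symm
      calc g⁻¹ * x * g * s = g⁻¹ * (x * (g * s * g⁻¹)) * g := by group
        _ = g⁻¹ * (g * s * g⁻¹ * x) * g := by rw [hxu']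
        _ = s * (g⁻¹ * x * g) := by group)
    have ha1 : g⁻¹ * x * g ≠ 1 := fun e => hx1 (by
      calc x = g * (g⁻¹ * x * g) * g⁻¹ := by group
        _ = 1 := by rw [e]; group)
    have e : g * (g⁻¹ * x * g) * g⁻¹ = x := by group
    exact hy ((h.fixed_unique ha ha1 (k := g) (y := y) (by rw [e]; exact hx.2)).trans
      (h.fixed_unique ha ha1 (k := g) (y := o A) (by rw [e]; exact smul_o.2 hx.1)).symm)
  let f : two y → two y := fun x => ⟨(x : G)⁻¹ * (u * x * u⁻¹), mul_mem (inv_mem x.2) (hconj _ x.2)⟩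
  have hinj : Function.Injective f := by
    rintro ⟨x, hx⟩ ⟨w, hw⟩ hxw
    have e : x⁻¹ * (u * x * u⁻¹) = w⁻¹ * (u * w * u⁻¹) := congrArg Subtype.val hxw
    have hc : u * (w * x⁻¹) * u⁻¹ = w * x⁻¹ := by
      calc u * (w * x⁻¹) * u⁻¹ = w * (w⁻¹ * (u * w * u⁻¹)) * (u * x * u⁻¹)⁻¹ := by group
        _ = w * (x⁻¹ * (u * x * u⁻¹)) * (u * x * u⁻¹)⁻¹ := by rw [e]
        _ = w * x⁻¹ := by group
    exact Subtype.ext (mul_inv_eq_one.1 (hfix _ (mul_mem hw (inv_mem hx)) hc)).symm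
  obtain ⟨⟨x, hx⟩, hfx⟩ := (Finite.injective_iff_surjective.1 hinj) ⟨d, hd⟩
  have e : x⁻¹ * (u * x * u⁻¹) = d := congrArg Subtype.val hfx
  rw [← e, inv_eq hu]
  calc u * (x⁻¹ * (u * x * u)) * u = u * x⁻¹ * u * x * (u * u) := by group
    _ = (x⁻¹ * (u * x * u))⁻¹ := by
      rw [inv_sq_one hu, mul_one, mul_inv_rev, inv_inv, mul_inv_rev, mul_inv_rev, inv_eq hu, ← mul_assoc]

theorem Hyp.two_comm (h : Hyp A) {y : G ⧸ nA A} (hy : y ≠ o A) {x w : G} (hx : x ∈ two y)
    (hw : w ∈ two y) : x * w = w * x := by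
  obtain ⟨u, hu, huy, -, -⟩ := h.exists_swap hy
  have h1 := h.inverts hy hu huy hx
  have h2 := h.inverts hy hu huy hw
  have h3 := h.inverts hy hu huy (mul_mem hx hw)
  rw [← conj_mul, h1, h2, mul_inv_rev] at h3
  have := congrArg (fun v => (v)⁻¹) h3
  simpa [mul_inv_rev] using this.symm

/-- A nontrivial element fixing `o` and `y` fixes nothing else. -/
theorem Hyp.fixed_two (h : Hyp A) {y w : G ⧸ nA A} (hy : y ≠ o A) (hw : w ≠ o A) {d : G}
    (hd : d ∈ two y) (hd1 : d ≠ 1) (hdw : d • w = w) : w = y := by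
  obtain ⟨u, hu, huy, huy', -⟩ := h.exists_swap hy
  obtain ⟨v, hv, hvw, hvw', -⟩ := h.exists_swap hw
  have hd' : d ∈ two w := mem_two.2 ⟨hd.1, hdw⟩
  have hc : (u * v) * d = d * (u * v) := by
    have e1 := h.inverts hy hu huy (inv_mem hd)
    have e2 := h.inverts hw hv hvw hd'
    rw [inv_inv] at e1
    calc u * v * d = u * (v * d * v⁻¹) * v := by group
      _ = u * d⁻¹ * u⁻¹ * (u * v) := by rw [e2]; group
      _ = d * (u * v) := by rw [e1]
  -- `u * v` fixes `o`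
  have hfix : (u * v) • o A = o A := by
    by_contra hne
    set z := (u * v) • o A with hz
    have hdz : d • z = z := by
      rw [hz, smul_smul, ← hc, mul_smul, smul_o.2 hd.1]
    obtain ⟨r, hr, hrz, -, -⟩ := h.exists_swap hne
    have hm : r * (u * v) ∈ nA A := by
      rw [← smul_o, mul_smul, ← hz, ← hrz, smul_smul, inv_sq_one hr, one_smul]
    have hdr := h.inverts hne hr hrz (mem_two.2 ⟨hd.1, hdz⟩)
    have hconj : (r * (u * v)) * d * (r * (u * v))⁻¹ = d⁻¹ := by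
      calc (r * (u * v)) * d * (r * (u * v))⁻¹ = r * ((u * v) * d * (u * v)⁻¹) * r⁻¹ := by group
        _ = r * d * r⁻¹ := by rw [hc, mul_inv_cancel_right]
        _ = _ := hdr
    obtain ⟨d₀, hd₀, a, ha, hm'⟩ := h.factor hy hm
    rw [hm'] at hconj
    have hmem : d₀ * (a * (d * a⁻¹ * d⁻¹)) * d₀⁻¹ ∈ A :=
      conj_mem hd₀.1 (mul_mem ha (conj_mem hd.1 (inv_mem ha)))
    have e : d₀ * (a * (d * a⁻¹ * d⁻¹)) * d₀⁻¹ = (d * d)⁻¹ := by
      have hdd : d⁻¹ * d₀⁻¹ = d₀⁻¹ * d⁻¹ := by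
        rw [← mul_inv_rev, ← mul_inv_rev, h.two_comm hy hd₀ hd]
      calc d₀ * (a * (d * a⁻¹ * d⁻¹)) * d₀⁻¹ = d₀ * a * d * a⁻¹ * (d⁻¹ * d₀⁻¹) := by group
        _ = ((d₀ * a) * d * (d₀ * a)⁻¹) * d⁻¹ := by rw [hdd]; group
        _ = (d * d)⁻¹ := by rw [hconj]; group
    rw [e] at hmem
    have h2 : d * d = 1 := h.two_inf hy (mul_mem hd hd) (inv_mem_iff.1 hmem)
    exact hd1 (h.sq_ne_one hy hd h2)
  rw [mul_smul, hvw] at hfix
  calc w = (u * u) • w := by rw [inv_sq_one hu, one_smul]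
    _ = u • o A := by rw [mul_smul, hfix]
    _ = y := huy

theorem Hyp.exists_ne (h : Hyp A) : ∃ y : G ⧸ nA A, y ≠ o A := by
  by_contra hall
  push Not at hall
  obtain ⟨u, hu, -⟩ := StronglyEmbedded.exists_involution_notMem h.stronglyEmbedded
  exact hu (smul_o.1 (hall _))

theorem Hyp.card_two (h : Hyp A) {y : G ⧸ nA A} (hy : y ≠ o A) :
    Nat.card (two y) = Nat.card (nA A ⧸ A.subgroupOf (nA A)) := by
  refine Nat.card_eq_of_bijective (fun d => ((⟨d.1, d.2.1⟩ : nA A) : nA A ⧸ A.subgroupOf (nA A))) ⟨?_, ?_⟩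
  · rintro ⟨x, hx⟩ ⟨w, hw⟩ e
    have e0 : (((⟨x, hx.1⟩ : nA A) : nA A ⧸ A.subgroupOf (nA A))) = ((⟨w, hw.1⟩ : nA A) : _) := e
    have e' : x⁻¹ * w ∈ A := (QuotientGroup.eq (s := A.subgroupOf (nA A))).1 e0
    exact Subtype.ext (inv_mul_eq_one.1 (h.two_inf hy (mul_mem (inv_mem hx) hw) e'))
  · intro q
    obtain ⟨⟨m, hm⟩, rfl⟩ := QuotientGroup.mk_surjective q
    obtain ⟨d, hd, a, ha, hma⟩ := h.factor hy hm
    refine ⟨⟨d, hd⟩, QuotientGroup.eq.2 ?_⟩
    show d⁻¹ * m ∈ A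
    rw [hma, inv_mul_cancel_left]
    exact ha

theorem Hyp.three_le_two (h : Hyp A) {y : G ⧸ nA A} (hy : y ≠ o A) : 2 ≤ Nat.card (two y) := by
  obtain ⟨s, t, hs, ht, hso, hto, hne⟩ := h.two_involutions
  obtain ⟨d, hd, hds⟩ := h.exists_conj hy hs hso ht hto
  have : Nontrivial (two y) := ⟨⟨d, hd⟩, 1, fun e => hne (by
    rw [← hds, show d = 1 from congrArg Subtype.val e]; group)⟩
  exact Finite.one_lt_card

/-- `A` is regular on the points other than `o`. -/
theorem Hyp.regular (h : Hyp A) {y : G ⧸ nA A} (hy : y ≠ o A) :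
    Nat.card (G ⧸ nA A) = Nat.card A + 1 ∧ ∀ w, w ≠ o A → ∃ a ∈ A, a • y = w := by
  classical
  have := Fintype.ofFinite (G ⧸ nA A)
  have := Fintype.ofFinite (nA A)
  let X := {w : G ⧸ nA A // w ≠ o A}
  have hX : Nat.card X + 1 = Nat.card (G ⧸ nA A) := by
    rw [Nat.card_eq_fintype_card, Nat.card_eq_fintype_card, Fintype.card_subtype_compl,
      Fintype.card_subtype_eq]
    have : 0 < Fintype.card (G ⧸ nA A) := Fintype.card_pos
    omega
  let f : A → X := fun a => ⟨(a : G) • y, fun e => hy (by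
    rw [← inv_smul_smul (a : G) y, e, smul_o.2 (inv_mem (le_nA a.2))])⟩
  have hf : Function.Injective f := by
    rintro ⟨a, ha⟩ ⟨b, hb⟩ e
    have e' : a • y = b • y := congrArg Subtype.val e
    have e'' : (b⁻¹ * a) • y = y := by rw [mul_smul, e', inv_smul_smul]
    exact Subtype.ext (inv_mul_eq_one.1 (h.two_inf hy (mem_two.2 ⟨le_nA (mul_mem (inv_mem hb) ha), e''⟩)
      (mul_mem (inv_mem hb) ha))).symm
  -- the upper bound
  let P := Σ w : X, {d : two w.1 // d ≠ 1}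
  let M' := {m : nA A // m ∉ A.subgroupOf (nA A)}
  let φ : P → M' := fun p => ⟨⟨p.2.1.1, p.2.1.2.1⟩,
    fun e => h.not_mem_A p.1.2 p.2.1.2 (fun e' => p.2.2 (Subtype.ext e')) e⟩
  have hφ : Function.Injective φ := by
    rintro ⟨w, ⟨d, hd⟩, hd1⟩ ⟨w', ⟨d', hd'⟩, hd1'⟩ e
    obtain rfl : d = d' := congrArg (fun z : M' => ((z.1 : nA A) : G)) e
    obtain rfl : w = w' := Subtype.ext
      (h.fixed_two w'.2 w.2 hd' (fun e => hd1' (Subtype.ext e)) hd.2)
    rfl
  have hle := Nat.card_le_card_of_injective φ hφ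
  have hM' : Nat.card M' + Nat.card A = Nat.card (nA A ⧸ A.subgroupOf (nA A)) * Nat.card A := by
    have e1 : Nat.card (nA A) = Nat.card (nA A ⧸ A.subgroupOf (nA A)) * Nat.card A := by
      rw [Subgroup.card_eq_card_quotient_mul_card_subgroup (A.subgroupOf (nA A)),
        Nat.card_congr (Subgroup.subgroupOfEquivOfLe (le_nA (A := A))).toEquiv]
    rw [← e1, ← Nat.card_congr (Subgroup.subgroupOfEquivOfLe (le_nA (A := A))).toEquiv]
    simp only [Nat.card_eq_fintype_card, M', Fintype.card_subtype_compl]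
    have := Fintype.card_subtype_le (fun m : nA A => m ∈ A.subgroupOf (nA A))
    omega
  have hP : Nat.card P = Nat.card X * (Nat.card (nA A ⧸ A.subgroupOf (nA A)) - 1) := by
    have := Fintype.ofFinite X
    rw [Nat.card_sigma, Finset.sum_congr rfl (fun w _ => show
      Nat.card {d : two w.1 // d ≠ 1} = Nat.card (nA A ⧸ A.subgroupOf (nA A)) - 1 by
        have := Fintype.ofFinite (two w.1)
        rw [← h.card_two w.2, Nat.card_eq_fintype_card, Nat.card_eq_fintype_card,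
          Fintype.card_subtype_compl, Fintype.card_subtype_eq])]
    rw [Finset.sum_const, Finset.card_univ, smul_eq_mul, ← Nat.card_eq_fintype_card (α := X)]
  rw [hP] at hle
  have hr := h.three_le_two hy
  rw [h.card_two hy] at hr
  set r := Nat.card (nA A ⧸ A.subgroupOf (nA A))
  have hXA : Nat.card X ≤ Nat.card A := by
    refine Nat.le_of_mul_le_mul_right (hle.trans (le_of_eq ?_)) (show 0 < r - 1 by omega)
    obtain ⟨r', hr'⟩ : ∃ r', r = r' + 1 := ⟨r - 1, by omega⟩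
    rw [hr'] at hM' ⊢
    rw [Nat.add_sub_cancel]
    linarith
  have hAX := Nat.card_le_card_of_injective f hf
  have heq : Nat.card A = Nat.card X := le_antisymm hAX hXA
  refine ⟨by omega, fun w hw => ?_⟩
  obtain ⟨a, ha⟩ := ((Nat.bijective_iff_injective_and_card f).2 ⟨hf, heq⟩).2 ⟨w, hw⟩
  exact ⟨a, a.2, congrArg Subtype.val ha⟩

/-- A nontrivial element of the normaliser fixes at most one point besides `o`. -/
theorem Hyp.fixed_le (h : Hyp A) {g : G} (hg : g ∈ nA A) (hg1 : g ≠ 1) {y w : G ⧸ nA A} (hy : y ≠ o A)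
    (hw : w ≠ o A) (hgy : g • y = y) (hgw : g • w = w) : w = y :=
  h.fixed_two hy hw (mem_two.2 ⟨hg, hgy⟩) hg1 hgw

theorem Hyp.zassenhaus (h : Hyp A) : Cfsg.IsZassenhausGroup G (G ⧸ nA A) := by
  obtain ⟨y, hy⟩ := h.exists_ne
  obtain ⟨hn, hreg⟩ := h.regular hy
  have hfour : 3 ≤ Nat.card (G ⧸ nA A) := by
    obtain ⟨s, -, hs, -, hso, -, -⟩ := h.two_involutions
    have : 2 ∣ Nat.card A := by
      rw [← hso, ← Subgroup.orderOf_mk (H := A) s hs]; exact orderOf_dvd_natCard _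
    have := Nat.le_of_dvd Nat.card_pos this
    omega
  have htwo : ∀ w, w ≠ o A → ∀ w', w' ≠ o A → ∃ g : G, g • o A = o A ∧ g • w = w' := by
    intro w hw w' hw'
    obtain ⟨a, ha, rfl⟩ := hreg w hw
    obtain ⟨b, hb, rfl⟩ := hreg w' hw'
    exact ⟨b * a⁻¹, smul_o.2 (mul_mem (le_nA hb) (inv_mem (le_nA ha))), by
      rw [mul_smul, inv_smul_smul]⟩
  have htrans : ∀ a b c : G ⧸ nA A, a ≠ b → b ≠ c → a ≠ c → ∀ g : G, g • a = a → g • b = b → g • c = c → g = 1 := by
    intro a b c hab hbc hac g ha hb hc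
    obtain ⟨k, rfl⟩ := QuotientGroup.mk_surjective a
    have e : ((k : G) : G ⧸ nA A) = k • o A := by rw [o]; show _ = ((k * 1 : G) : G ⧸ nA A); rw [mul_one]
    rw [e] at ha hab hac
    have hb' : k⁻¹ • b ≠ o A := fun e' => hab (by rw [← e', smul_inv_smul])
    have hc' : k⁻¹ • c ≠ o A := fun e' => hac (by rw [← e', smul_inv_smul])
    by_contra hg1
    refine hbc ?_
    have hconj : ∀ x : G ⧸ nA A, g • x = x → (k⁻¹ * g * k) • (k⁻¹ • x) = k⁻¹ • x := fun x hx => by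
      rw [smul_smul, mul_inv_cancel_right, mul_smul, hx]
    have hgk : k⁻¹ * g * k ∈ nA A := smul_o.1 (by rw [mul_smul, mul_smul, ha, inv_smul_smul])
    have := h.fixed_le hgk (fun e' => hg1 (by
      calc g = k * (k⁻¹ * g * k) * k⁻¹ := by group
        _ = 1 := by rw [e']; group)) hc' hb' (hconj c hc) (hconj b hb)
    exact smul_left_cancel _ this
  have hfaith : ∀ g : G, (∀ x : G ⧸ nA A, g • x = x) → g = 1 := by
    intro g hg
    have hX : ∃ w, w ≠ o A ∧ w ≠ y := by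
      classical
      have := Fintype.ofFinite (G ⧸ nA A)
      by_contra hall
      push Not at hall
      have : (Finset.univ : Finset (G ⧸ nA A)) ⊆ {o A, y} := fun w _ => by
        by_cases hw : w = o A
        · simp [hw]
        · simp [hall w hw]
      have := (Finset.card_le_card this).trans Finset.card_le_two
      rw [Finset.card_univ, ← Nat.card_eq_fintype_card] at this
      omega
    obtain ⟨w, hw, hwy⟩ := hX
    exact htrans (o A) y w (Ne.symm hy) (Ne.symm hwy) (Ne.symm hw) g (hg _) (hg _) (hg _)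
  refine ⟨⟨fun {g₁ g₂} hgg => ?_⟩, ?_, fun g a b c hab hbc hac => htrans a b c hab hbc hac g, ?_, ?_⟩
  · exact inv_mul_eq_one.1 (hfaith (g₂⁻¹ * g₁) fun x => by rw [mul_smul, hgg, inv_smul_smul]) |>.symm
  · rw [is_two_pretransitive_iff]
    intro a b c d hab hcd
    obtain ⟨k, rfl⟩ := QuotientGroup.mk_surjective a
    obtain ⟨l, rfl⟩ := QuotientGroup.mk_surjective c
    have e : ∀ k : G, ((k : G) : G ⧸ nA A) = k • o A := fun k => by
      rw [o]; show _ = ((k * 1 : G) : G ⧸ nA A); rw [mul_one]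
    rw [e] at hab hcd ⊢
    rw [e l]
    obtain ⟨g, hgo, hgb⟩ := htwo (k⁻¹ • b) (fun e' => hab (by rw [← e', smul_inv_smul]))
      (l⁻¹ • d) (fun e' => hcd (by rw [← e', smul_inv_smul]))
    exact ⟨l * g * k⁻¹, by rw [mul_smul, inv_smul_smul, mul_smul, hgo],
      by rw [mul_smul, mul_smul, hgb, smul_inv_smul]⟩
  · obtain ⟨s, t, hs, ht, hso, hto, hne⟩ := h.two_involutions
    obtain ⟨d, hd, hds⟩ := h.exists_conj hy hs hso ht hto
    exact ⟨d, fun e => hne (by rw [← hds, e]; group), o A, y, Ne.symm hy, smul_o.2 hd.1, hd.2⟩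
  · intro N hN hNt
    by_contra hcon
    push Not at hcon
    have hreg1 : ∀ m ∈ N, m • o A = o A → m = 1 := fun m hm hmo => by
      exact congrArg Subtype.val (Subgroup.mem_bot.1 ((SetLike.ext_iff.1 (hcon (o A)) ⟨m, hm⟩).1 hmo))
    obtain ⟨s, t, hs, ht, hso, hto, hne⟩ := h.two_involutions
    have hinv : ∀ s ∈ A, orderOf s = 2 → ∀ w ∈ N, s * w * s⁻¹ = w⁻¹ := by
      intro s hs hso w hw
      let F : N → N := fun m => ⟨(m : G)⁻¹ * (s * m * s⁻¹), mul_mem (inv_mem m.2) (hN.conj_mem _ m.2 s)⟩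
      have hinj : Function.Injective F := by
        rintro ⟨x, hx⟩ ⟨z, hz⟩ hxz
        have e : x⁻¹ * (s * x * s⁻¹) = z⁻¹ * (s * z * s⁻¹) := congrArg Subtype.val hxz
        have hc : s * (z * x⁻¹) = z * x⁻¹ * s := by
          calc s * (z * x⁻¹) = z * (z⁻¹ * (s * z * s⁻¹)) * (s * x * s⁻¹)⁻¹ * s := by group
            _ = z * (x⁻¹ * (s * x * s⁻¹)) * (s * x * s⁻¹)⁻¹ * s := by rw [e]
            _ = z * x⁻¹ * s := by group
        have hfix : s • ((z * x⁻¹) • o A) = (z * x⁻¹) • o A := by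
          rw [smul_smul, hc, mul_smul, smul_o.2 (le_nA hs)]
        exact Subtype.ext (mul_inv_eq_one.1 (hreg1 _ (mul_mem hz (inv_mem hx))
          (h.fixed_o hs (Basic.ne_one hso) hfix))).symm
      obtain ⟨⟨x, hx⟩, hfx⟩ := (Finite.injective_iff_surjective.1 hinj) ⟨w, hw⟩
      have e : x⁻¹ * (s * x * s⁻¹) = w := congrArg Subtype.val hfx
      rw [← e, inv_eq hso]
      calc s * (x⁻¹ * (s * x * s)) * s = s * x⁻¹ * s * x * (s * s) := by group
        _ = (x⁻¹ * (s * x * s))⁻¹ := by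
          rw [inv_sq_one hso, mul_one, mul_inv_rev, inv_inv, mul_inv_rev, mul_inv_rev, inv_eq hso,
            ← mul_assoc]
    refine hne ?_
    have hst : s * t = 1 := hfaith _ fun x => by
      obtain ⟨⟨m, hm⟩, hmx⟩ := hNt.exists_smul_eq (o A) x
      have hmx' : m • o A = x := hmx
      have h1 : (s * t) * m = m * (s * t) := by
        have e1 := hinv t ht hto m hm
        have e2 := hinv s hs hso m⁻¹ (inv_mem hm)
        rw [inv_inv] at e2
        calc s * t * m = s * (t * m * t⁻¹) * t := by group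
          _ = s * m⁻¹ * s⁻¹ * (s * t) := by rw [e1]; group
          _ = m * (s * t) := by rw [e2]
      rw [← hmx', smul_smul, h1, mul_smul, smul_o.2 (le_nA (mul_mem hs ht))]
    rw [eq_inv_of_mul_eq_one_left hst, inv_eq hto]

/-- The conclusion: `A` has exponent two. -/
theorem Hyp.sq_eq_one (h : Hyp A) {a : G} (ha : a ∈ A) : a * a = 1 := by
  classical
  have := Fintype.ofFinite (G ⧸ nA A)
  obtain ⟨y, hy⟩ := h.exists_ne
  obtain ⟨hn, -⟩ := h.regular hy
  have htwo : (stabilizer G (o A) ⊓ stabilizer G y : Subgroup G) = two y := by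
    ext g; exact and_congr_left fun _ => smul_o
  set e := Nat.card (nA A ⧸ A.subgroupOf (nA A)) with he
  have hcard : Nat.card ↥(stabilizer G (o A) ⊓ stabilizer G y : Subgroup G) = e := by
    rw [htwo, h.card_two hy]
  obtain ⟨s, t, hs, ht, hso, hto, hne⟩ := h.two_involutions
  rcases Cfsg.Agent.S0885.result h.zassenhaus (Ne.symm hy) (Nat.card A) e
    (by rw [← Nat.card_eq_fintype_card, hn]) hcard (h.odd_index) A
    (fun g hg => smul_o.2 (le_nA hg)) (by rw [← Nat.card_eq_fintype_card, hn])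
    (fun u hu hu1 c hc => h.fixed_o hu hu1 hc) with hle | ⟨-, ⟨u, v, huv⟩, -⟩
  swap
  · exact absurd (Subtype.ext (h.comm u.2 v.2)) huv
  have hdvd : e ∣ Nat.card A - 1 := h.index_dvd
  have heven : 2 ∣ Nat.card A := by
    rw [← hso, ← Subgroup.orderOf_mk (H := A) s hs]; exact orderOf_dvd_natCard _
  have hpos : 0 < Nat.card A := Nat.card_pos
  have heq : e = Nat.card A - 1 := by
    obtain ⟨k, hk⟩ := hdvd
    obtain ⟨j, hj⟩ := heven
    rw [hk] at hle
    have hk1 : k ≤ 2 := by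
      by_contra hk3
      have : e * 3 ≤ e * k := Nat.mul_le_mul_left e (by omega)
      have : 0 < e := he ▸ Nat.card_pos
      omega
    interval_cases k <;> omega
  by_cases ha1 : a = 1
  · rw [ha1, mul_one]
  -- the orbit of `s` under `two y` is all of `A`
  let f : two y → {b : A // b ≠ 1} := fun d => ⟨⟨(d : G) * s * (d : G)⁻¹, conj_mem d.2.1 hs⟩,
    fun e' => Basic.ne_one hso (conj_eq_one_iff.1 (congrArg Subtype.val e'))⟩
  have hf : Function.Injective f := by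
    rintro ⟨x, hx⟩ ⟨w, hw⟩ e'
    have e'' : x * s * x⁻¹ = w * s * w⁻¹ := congrArg (fun z : {b : A // b ≠ 1} => ((z.1 : A) : G)) e'
    refine Subtype.ext (inv_mul_eq_one.1 (h.two_inf hy (mul_mem (inv_mem hx) hw)
      (h.mem_of_commute hs (Basic.ne_one hso) ?_)))
    calc x⁻¹ * w * s = x⁻¹ * (w * s * w⁻¹) * w := by group
      _ = x⁻¹ * (x * s * x⁻¹) * w := by rw [e'']
      _ = s * (x⁻¹ * w) := by group
  have hc : Nat.card (two y) = Nat.card {b : A // b ≠ 1} := by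
    have := Fintype.ofFinite A
    rw [h.card_two hy, ← he, heq, Nat.card_eq_fintype_card, Nat.card_eq_fintype_card,
      Fintype.card_subtype_compl, Fintype.card_subtype_eq]
  obtain ⟨⟨d, hd⟩, hda⟩ := ((Nat.bijective_iff_injective_and_card f).2 ⟨hf, hc⟩).2
    ⟨⟨a, ha⟩, fun e' => ha1 (congrArg Subtype.val e')⟩
  have hda' : d * s * d⁻¹ = a := congrArg (fun z : {b : A // b ≠ 1} => ((z.1 : A) : G)) hda
  rw [← hda', conj_mul, inv_sq_one hso, mul_one, mul_inv_cancel]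

end Cfsg.Agent.CTGroup
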